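import Groth.Agent.Sga1.AbhExt2
import Groth.Agent.Sga1.AbhLocal
import Groth.Agent.Sga1.AbhExp
import Groth.Agent.Etalg.RamApp
import Mathlib.RingTheory.Unramified.Field

/-!
# Abhyankar's lemma at a principal prime of residue characteristic zero
-/

set_option autoImplicit false

universe u

open IsLocalRing TensorProduct Groth.Agent.Sga1 Groth.Agent.Sga1.AbhKum

namespace Groth.Agent.Etdl.H171.AbhDvr

/-- In residue characteristic zero every finite separable extension is tame with ramification indices
dividing `n`, if `n` is divisible by all integers up to the degree. -/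
theorem tameDvd_of_charZero (R : Type u) [CommRing R] [IsDomain R] [IsDiscreteValuationRing R]
    [CharZero (ResidueField R)]
    (K : Type u) [Field K] [Algebra R K] [IsFractionRing R K]
    (L : Type u) [Field L] [Algebra K L] [FiniteDimensional K L] [Algebra.IsSeparable K L]
    [Algebra R L] [IsScalarTower R K L] (n : ℕ)
    (hn : ∀ e, 1 ≤ e → e ≤ Module.finrank K L → e ∣ n) : TameDvd R (algebraMap R L) n := by
  intro V h
  let alg : Algebra R V := (RingHom.codRestrict (algebraMap R L) V h.1).toAlgebra
  intro hlh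
  have hle := AbhVal2.ramificationIdx'_le R K L V h
  refine ⟨?_, hn _ hle.1 hle.2⟩
  have htower' : IsScalarTower R V L := IsScalarTower.of_algebraMap_eq' rfl
  have hinjL : Function.Injective (algebraMap R L) := by
    rw [IsScalarTower.algebraMap_eq R K L]
    exact (algebraMap K L).injective.comp (IsFractionRing.injective R K)
  have hinj : Function.Injective (algebraMap R V) := by
    rw [IsScalarTower.algebraMap_eq R V L, RingHom.coe_comp] at hinjL
    exact Function.Injective.of_comp hinjL
  have halgKL : Algebra.IsAlgebraic K L := inferInstance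
  have halgRL : Algebra.IsAlgebraic R L := (IsFractionRing.comap_isAlgebraic_iff (A := R) (K := K) (C := L)).2 halgKL
  have halg : Algebra.IsAlgebraic R V := by
    refine ⟨fun x => ?_⟩
    obtain ⟨p, hp0, hp⟩ := Algebra.IsAlgebraic.isAlgebraic (R := R) (x : L)
    refine ⟨p, hp0, ?_⟩
    have hv : algebraMap V L (Polynomial.aeval x p) = 0 := by
      rw [← Polynomial.aeval_algebraMap_apply]
      exact hp
    exact Subtype.ext hv
  have hres : Algebra.IsAlgebraic (ResidueField R) (ResidueField V) :=
    Groth.Agent.Etalg.RamApp.isAlgebraic_residueField hinj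
  exact Algebra.IsAlgebraic.isSeparable_of_perfectField

/-- **Abhyankar's lemma** at a principal prime of residue characteristic zero. -/
theorem exists_over (A : Type u) [CommRing A] [IsDomain A] [IsNoetherianRing A] (x : A) (hx : x ≠ 0)
    [(Ideal.span {x}).IsPrime] [CharZero (ResidueField (Localization.AtPrime (Ideal.span {x})))]
    (B : Type u) [CommRing B] [Algebra A B]
    [Algebra.Etale (FractionRing A) (FractionRing A ⊗[A] B)] :
    ∃ n : ℕ, 1 ≤ n ∧ ∀ (O : Type u) [CommRing O] [Algebra A O]
      [Algebra (Localization.AtPrime (Ideal.span {x})) O]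
      [IsScalarTower A (Localization.AtPrime (Ideal.span {x})) O]
      (L : Type u) [Field L] [Algebra O L] [Algebra A L] [IsScalarTower A O L]
      (_ : Function.Injective (algebraMap A L)) (T : O) (_ : T ^ n = algebraMap A O x),
      ∃ (C : Type u) (_ : CommRing C) (_ : Algebra O C),
        Module.Finite O C ∧ Algebra.Etale O C ∧ Nonempty (L ⊗[O] C ≃ₐ[L] L ⊗[A] B) := by
  let K := FractionRing A
  obtain ⟨hdvr, hmax⟩ := AbhKumDvr.isDiscreteValuationRing_localization A x hx
  let R := Localization.AtPrime (Ideal.span {x})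
  have hle : (Ideal.span {x}).primeCompl ≤ nonZeroDivisors A := Ideal.primeCompl_le_nonZeroDivisors _
  let : Algebra R K := (IsLocalization.map (M := (Ideal.span {x}).primeCompl) (T := nonZeroDivisors A)
    (S := R) K (RingHom.id A) hle).toAlgebra
  have htRK : IsScalarTower A R K := IsScalarTower.of_algebraMap_eq fun y =>
    (IsLocalization.map_eq (M := (Ideal.span {x}).primeCompl) (T := nonZeroDivisors A)
      (S := R) (Q := K) (g := RingHom.id A) hle y).symm
  have hfrac : IsFractionRing R K :=
    IsFractionRing.isFractionRing_of_isDomain_of_isLocalization (Ideal.span {x}).primeCompl R K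
  let M := K ⊗[A] B
  have hMfin : Module.Finite K M := Algebra.FormallyUnramified.finite_of_free K M
  set ϖ : R := algebraMap A R x with hϖdef
  have hϖ : Irreducible ϖ := (IsDiscreteValuationRing.irreducible_iff_uniformizer ϖ).mpr hmax
  obtain ⟨n, hn1, -, hn⟩ := AbhExp.exists_nat (ResidueField R) (Module.finrank K M)
  have hn' : ∀ e, 1 ≤ e → e ≤ Module.finrank K M → e ∣ n := fun e h1 h2 => hn e h1 h2 (fun p hp hc hd => by
    have := CharP.eq (ResidueField R) hc (CharP.ofCharZero (ResidueField R))
    exact hp.ne_zero this)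
  have hnR : (n : R) ∉ maximalIdeal R := by
    rw [← residue_eq_zero_iff, map_natCast, Nat.cast_eq_zero]
    omega
  refine ⟨n, hn1, ?_⟩
  intro O _ _ _ _ L _ _ _ _ hAL T hT
  have hdom := AbhKumDvr.isDomain R hϖ n hn1
  let R₂ := AbhKumDvr.Kum R ϖ n
  obtain ⟨hdvr₂, hmax₂⟩ := AbhKumDvr.isDiscreteValuationRing R hϖ n hn1
  let t : R₂ := AbhKumDvr.root R ϖ n
  have htn : t ^ n = algebraMap R R₂ ϖ := AbhKumDvr.root_pow R n
  have hinjR₂ : Function.Injective (algebraMap R R₂) := AbhKumDvr.injective_algebraMap R n hn1
  let K₂ := FractionRing R₂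
  have hinjK₂ : Function.Injective (algebraMap R K₂) := by
    rw [IsScalarTower.algebraMap_eq R R₂ K₂]
    exact (IsFractionRing.injective R₂ K₂).comp hinjR₂
  let : Algebra K K₂ := (IsFractionRing.lift (K := K) hinjK₂).toAlgebra
  have htRKK₂ : IsScalarTower R K K₂ := IsScalarTower.of_algebraMap_eq fun x =>
    (IsFractionRing.lift_algebraMap (K := K) hinjK₂ x).symm
  have htame : ∀ (L : Type u) [Field L] (ψ : M →+* L), Function.Surjective ψ →
      TameDvd R (ψ.comp (algebraMap R M)) n := by
    intro N _ ψ hψ
    let : Algebra K N := (ψ.comp (algebraMap K M)).toAlgebra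
    let : Algebra R N := (ψ.comp (algebraMap R M)).toAlgebra
    have htRKN : IsScalarTower R K N := IsScalarTower.of_algebraMap_eq fun y => by
      change ψ (algebraMap R M y) = ψ (algebraMap K M (algebraMap R K y))
      rw [← IsScalarTower.algebraMap_apply]
    let ψ' : M →ₐ[K] N := { ψ with commutes' := fun _ => rfl }
    have hψ' : Function.Surjective ψ' := hψ
    have hNfin : Module.Finite K N := Module.Finite.of_surjective ψ'.toLinearMap hψ'
    have hNunr : Algebra.FormallyUnramified K N := Algebra.FormallyUnramified.of_surjective ψ' hψ'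
    have hNsep : Algebra.IsSeparable K N := Algebra.FormallyUnramified.isSeparable K N
    have hfr : Module.finrank K N ≤ Module.finrank K M :=
      LinearMap.finrank_le_finrank_of_surjective (f := ψ'.toLinearMap) hψ'
    exact tameDvd_of_charZero R K N n fun e h1 h2 => hn' e h1 (h2.trans hfr)
  obtain ⟨C₂, _, _, hC₂fin, hC₂et, ⟨e⟩⟩ := AbhExt2.exists_extension_kummer R K M hϖ hnR
    htame R₂ hmax₂ htn (AbhKumDvr.adjoin_root R n) K₂
  -- `R₂ → O`
  let φ : R₂ →ₐ[R] O := Kummer.lift (fun _ : Fin 1 => ϖ) (fun _ => n) (fun _ => T) (fun _ => by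
    rw [hT, hϖdef, ← IsScalarTower.algebraMap_apply])
  have hφt : φ t = T := Kummer.lift_T _ _ _ _ _
  let : Algebra R₂ O := φ.toAlgebra
  have htRR₂O : IsScalarTower R R₂ O := IsScalarTower.of_algebraMap_eq fun x => (φ.commutes x).symm
  have hTL : algebraMap O L T ≠ 0 := by
    intro h0
    have h1 : algebraMap O L (T ^ n) = 0 := by rw [map_pow, h0, zero_pow (by omega)]
    rw [hT, ← IsScalarTower.algebraMap_apply, map_eq_zero_iff _ hAL] at h1
    exact hx h1
  let : Algebra R₂ L := ((algebraMap O L).comp (algebraMap R₂ O)).toAlgebra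
  have htR₂OL : IsScalarTower R₂ O L := IsScalarTower.of_algebraMap_eq' rfl
  have hinjR₂L : Function.Injective (algebraMap R₂ L) := by
    rw [RingHom.injective_iff_ker_eq_bot]
    by_contra hne
    have hp : (RingHom.ker (algebraMap R₂ L)).IsPrime := RingHom.ker_isPrime _
    have hmx : (RingHom.ker (algebraMap R₂ L)).IsMaximal := hp.isMaximal hne
    have h1 : RingHom.ker (algebraMap R₂ L) = maximalIdeal R₂ := IsLocalRing.eq_maximalIdeal hmx
    have h2 : t ∈ RingHom.ker (algebraMap R₂ L) := by
      rw [h1, hmax₂]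
      exact Ideal.mem_span_singleton_self _
    rw [RingHom.mem_ker, IsScalarTower.algebraMap_apply R₂ O L] at h2
    change algebraMap O L (φ t) = 0 at h2
    rw [hφt] at h2
    exact hTL h2
  let : Algebra K₂ L := (IsFractionRing.lift (K := K₂) hinjR₂L).toAlgebra
  have htR₂K₂L : IsScalarTower R₂ K₂ L := IsScalarTower.of_algebraMap_eq fun x =>
    (IsFractionRing.lift_algebraMap (K := K₂) hinjR₂L x).symm
  let : Algebra K L := ((algebraMap K₂ L).comp (algebraMap K K₂)).toAlgebra
  have htKK₂L : IsScalarTower K K₂ L := IsScalarTower.of_algebraMap_eq' rfl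
  have htAKL : IsScalarTower A K L := by
    refine IsScalarTower.of_algebraMap_eq fun x => ?_
    rw [IsScalarTower.algebraMap_apply A R K, IsScalarTower.algebraMap_apply K K₂ L,
      ← IsScalarTower.algebraMap_apply R K K₂, IsScalarTower.algebraMap_apply R R₂ K₂,
      ← IsScalarTower.algebraMap_apply R₂ K₂ L, IsScalarTower.algebraMap_apply R₂ O L,
      ← IsScalarTower.algebraMap_apply R R₂ O, ← IsScalarTower.algebraMap_apply A R O,
      ← IsScalarTower.algebraMap_apply A O L]
  refine ⟨O ⊗[R₂] C₂, inferInstance, inferInstance, inferInstance, inferInstance, ⟨?_⟩⟩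
  exact AbhLocal.chain A K K₂ R₂ O L B C₂ e

end Groth.Agent.Etdl.H171.AbhDvr
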