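import Mathlib.RingTheory.PowerSeries.Expand
import Mathlib.RingTheory.AdjoinRoot
import Mathlib.RingTheory.Etale.StandardEtale
import Mathlib.RingTheory.Localization.Away.Basic

/-!
# Adjoining an `N`-th root of the variable to a power series ring

`S⟦X⟧` is an algebra over `A ≃ S⟦X⟧` via `f(X) ↦ f(X ^ N)`. It is `A[T] / (T ^ N - x)`.
-/

set_option autoImplicit false
universe u

open Polynomial

namespace Groth.Agent.Etdl.H171.KumPow

section decomposition

variable {S : Type u} [CommRing S] (N : ℕ) (hN : N ≠ 0)

/-- the `i`-th component of a power series modulo `N` -/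
noncomputable def comp (i : ℕ) (f : PowerSeries S) : PowerSeries S :=
  PowerSeries.mk fun q => PowerSeries.coeff (N * q + i) f

theorem coeff_X_pow_mul_expand (a : ℕ → PowerSeries S) (i : ℕ) (hi : i < N) (m : ℕ) :
    PowerSeries.coeff m (PowerSeries.X ^ i * PowerSeries.expand N hN (a i)) =
      if m % N = i then PowerSeries.coeff (m / N) (a i) else 0 := by
  rw [PowerSeries.coeff_X_pow_mul']
  split_ifs with h1 h2 h2
  · rw [PowerSeries.coeff_expand]
    have h3 : m - i = N * (m / N) := by
      have := Nat.div_add_mod m N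
      omega
    rw [h3, if_pos (Dvd.intro _ rfl), Nat.mul_div_cancel_left _ (Nat.pos_of_ne_zero hN)]
  · rw [PowerSeries.coeff_expand, if_neg]
    rintro ⟨c, hc⟩
    apply h2
    have : m = N * c + i := by omega
    rw [this, Nat.mul_add_mod, Nat.mod_eq_of_lt hi]
  · exfalso
    apply h1
    rw [← h2]
    exact Nat.mod_le m N
  · rfl

theorem coeff_sum (a : ℕ → PowerSeries S) (m : ℕ) :
    PowerSeries.coeff m (∑ i ∈ Finset.range N, PowerSeries.X ^ i * PowerSeries.expand N hN (a i)) =
      PowerSeries.coeff (m / N) (a (m % N)) := by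
  rw [map_sum, Finset.sum_eq_single (m % N)]
  · rw [coeff_X_pow_mul_expand N hN a _ (Nat.mod_lt _ (Nat.pos_of_ne_zero hN)), if_pos rfl]
  · intro i hi hne
    rw [coeff_X_pow_mul_expand N hN a i (Finset.mem_range.1 hi), if_neg (Ne.symm hne)]
  · intro h
    exact absurd (Finset.mem_range.2 (Nat.mod_lt _ (Nat.pos_of_ne_zero hN))) h

theorem eq_sum (f : PowerSeries S) :
    f = ∑ i ∈ Finset.range N, PowerSeries.X ^ i * PowerSeries.expand N hN (comp N i f) := by
  ext m
  rw [coeff_sum N hN (fun i => comp N i f), comp, PowerSeries.coeff_mk, Nat.div_add_mod]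

theorem eq_zero_of_sum (a : ℕ → PowerSeries S)
    (h : ∑ i ∈ Finset.range N, PowerSeries.X ^ i * PowerSeries.expand N hN (a i) = 0) (i : ℕ) (hi : i < N) :
    a i = 0 := by
  ext q
  have h1 := coeff_sum N hN a (N * q + i)
  rw [h, map_zero, Nat.mul_add_mod, Nat.mod_eq_of_lt hi, Nat.mul_add_div (Nat.pos_of_ne_zero hN),
    Nat.div_eq_of_lt hi, add_zero] at h1
  rw [← h1, map_zero]

end decomposition

section algebra

variable {S A : Type u} [CommRing S] [CommRing A] (e : A ≃+* PowerSeries S) (N : ℕ) (hN : N ≠ 0)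
  [Algebra A (PowerSeries S)] (halg : ∀ a, algebraMap A (PowerSeries S) a = PowerSeries.expand N hN (e a))

include halg in
theorem injective : Function.Injective (algebraMap A (PowerSeries S)) := by
  rw [injective_iff_map_eq_zero]
  intro a ha
  rw [halg] at ha
  have h1 : e a = 0 := by
    ext m
    have := congrArg (PowerSeries.coeff (N * m)) ha
    rwa [PowerSeries.coeff_expand_mul] at this
  exact (map_eq_zero_iff e e.injective).1 h1

include halg in
theorem X_pow : (PowerSeries.X : PowerSeries S) ^ N = algebraMap A (PowerSeries S) (e.symm PowerSeries.X) := by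
  rw [halg, RingEquiv.apply_symm_apply, PowerSeries.expand_X]

include halg in
theorem adjoin_X : Algebra.adjoin A {(PowerSeries.X : PowerSeries S)} = ⊤ := by
  rw [eq_top_iff]
  rintro f -
  rw [eq_sum N hN f]
  refine Subalgebra.sum_mem _ fun i _ => Subalgebra.mul_mem _ ?_ ?_
  · exact Subalgebra.pow_mem _ (Algebra.self_mem_adjoin_singleton A _) i
  · have : PowerSeries.expand N hN (comp N i f) = algebraMap A (PowerSeries S) (e.symm (comp N i f)) := by
      rw [halg, RingEquiv.apply_symm_apply]
    rw [this]
    exact Subalgebra.algebraMap_mem _ _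

include halg in
theorem finite : Module.Finite A (PowerSeries S) := by
  have hint : IsIntegral A (PowerSeries.X : PowerSeries S) := by
    refine IsIntegral.of_pow (Nat.pos_of_ne_zero hN) ?_
    rw [X_pow e N hN halg]
    exact isIntegral_algebraMap
  have h := Algebra.finite_adjoin_of_finite_of_isIntegral (Set.finite_singleton _)
    (fun x hx => by rw [Set.mem_singleton_iff.1 hx]; exact hint) (R := A) (s := {(PowerSeries.X : PowerSeries S)})
  rw [adjoin_X e N hN halg] at h
  exact Module.Finite.equiv (Subalgebra.topEquiv (R := A) (A := PowerSeries S)).toLinearEquiv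

/-- the Kummer polynomial -/
noncomputable abbrev kpoly : A[X] := X ^ N - C (e.symm PowerSeries.X)

omit [Algebra A (PowerSeries S)] in
include hN in
theorem kpoly_monic : (kpoly e N).Monic := monic_X_pow_sub_C _ hN

include halg in
theorem exists_equiv : ∃ φ : AdjoinRoot (kpoly e N) ≃ₐ[A] PowerSeries S,
    φ (AdjoinRoot.root _) = PowerSeries.X := by
  have hroot : aeval (PowerSeries.X : PowerSeries S) (kpoly e N) = 0 := by
    rw [map_sub, map_pow, aeval_X, aeval_C, X_pow e N hN halg, sub_self]
  let φ : AdjoinRoot (kpoly e N) →ₐ[A] PowerSeries S := AdjoinRoot.liftAlgHom _ (Algebra.ofId _ _) PowerSeries.X hroot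
  have hφr : φ (AdjoinRoot.root _) = PowerSeries.X := AdjoinRoot.liftAlgHom_root _ _ _ _
  have hφ : ∀ p : A[X], φ (AdjoinRoot.mk _ p) = aeval (PowerSeries.X : PowerSeries S) p := by
    intro p
    rw [← AdjoinRoot.aeval_eq, ← aeval_algHom_apply, hφr]
  have hmon := kpoly_monic e N hN
  refine ⟨AlgEquiv.ofBijective φ ⟨?_, ?_⟩, hφr⟩
  · rw [injective_iff_map_eq_zero]
    intro y hy
    obtain ⟨p, rfl⟩ := AdjoinRoot.mk_surjective y
    have hmk : AdjoinRoot.mk (kpoly e N) p = AdjoinRoot.mk (kpoly e N) (p %ₘ kpoly e N) := by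
      rw [AdjoinRoot.mk_eq_mk, modByMonic_eq_sub_mul_div p (kpoly e N), sub_sub_cancel]
      exact Dvd.intro _ rfl
    rw [hmk] at hy ⊢
    have hdeg : (p %ₘ kpoly e N).natDegree < N ∨ p %ₘ kpoly e N = 0 := by
      by_cases h1 : kpoly e N = 1
      · right
        rw [h1, modByMonic_one]
      · left
        have := natDegree_modByMonic_lt p hmon h1
        have hd : (kpoly e N).natDegree ≤ N := natDegree_sub_C.le.trans (natDegree_X_pow_le N)
        omega
    rcases hdeg with hdeg | h0
    · set r := p %ₘ kpoly e N with hr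
      rw [hφ, aeval_eq_sum_range' hdeg] at hy
      have h2 : ∑ i ∈ Finset.range N, (PowerSeries.X : PowerSeries S) ^ i *
          PowerSeries.expand N hN (e (r.coeff i)) = 0 := by
        rw [← hy]
        refine Finset.sum_congr rfl fun i _ => ?_
        rw [Algebra.smul_def, halg, mul_comm]
      have h3 : r = 0 := by
        ext i
        rw [coeff_zero]
        by_cases hi : i < N
        · have := eq_zero_of_sum N hN (fun i => e (r.coeff i)) h2 i hi
          exact (map_eq_zero_iff e e.injective).1 this
        · exact coeff_eq_zero_of_natDegree_lt (by omega)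
      rw [h3, map_zero]
    · rw [h0, map_zero]
  · intro f
    have hf : f ∈ Algebra.adjoin A {(PowerSeries.X : PowerSeries S)} := by
      rw [adjoin_X e N hN halg]; trivial
    rw [Algebra.adjoin_singleton_eq_range_aeval] at hf
    obtain ⟨p, rfl⟩ := hf
    exact ⟨AdjoinRoot.mk _ p, hφ p⟩

include halg hN in
theorem etale (hu : IsUnit (N : A)) : Algebra.Etale A (Localization.Away (PowerSeries.X : PowerSeries S)) := by
  obtain ⟨u, hu⟩ := hu
  let P : StandardEtalePair A := ⟨kpoly e N, kpoly_monic e N hN, X, ⟨C (↑u⁻¹ : A), 0, N - 1, by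
    have h1 : derivative (kpoly e N) = C (N : A) * X ^ (N - 1) := by
      rw [derivative_sub, derivative_X_pow, derivative_C, sub_zero]
    rw [h1, mul_zero, add_zero, mul_right_comm, ← C_mul, ← hu, Units.mul_inv, C_1, one_mul]⟩⟩
  obtain ⟨φ, hφ⟩ := exists_equiv e N hN halg
  have h1 : Algebra.Etale A (Localization.Away (AdjoinRoot.mk P.f P.g)) :=
    Algebra.Etale.of_equiv P.equivAwayAdjoinRoot
  have hφX : φ (AdjoinRoot.mk P.f P.g) = PowerSeries.X := by
    rw [← hφ]
    rfl
  let e1 : Localization.Away (AdjoinRoot.mk P.f P.g) ≃ₐ[A] Localization.Away (PowerSeries.X : PowerSeries S) :=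
    AlgEquiv.ofRingEquiv (f := IsLocalization.ringEquivOfRingEquiv (M := Submonoid.powers (AdjoinRoot.mk P.f P.g))
      (T := Submonoid.powers (PowerSeries.X : PowerSeries S)) _ _ φ.toRingEquiv (by
        rw [Submonoid.map_powers]
        congr 1)) (by
        intro a
        rw [IsScalarTower.algebraMap_apply A (AdjoinRoot (kpoly e N)) (Localization.Away (AdjoinRoot.mk P.f P.g)),
          IsScalarTower.algebraMap_apply A (PowerSeries S) (Localization.Away (PowerSeries.X : PowerSeries S))]
        refine (IsLocalization.ringEquivOfRingEquiv_eq _ _).trans ?_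
        congr 1
        exact φ.commutes a)
  exact Algebra.Etale.of_equiv e1

end algebra

end Groth.Agent.Etdl.H171.KumPow
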