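import Groth.Agent.CalgC.SpreadAlg
import Mathlib.RingTheory.Localization.BaseChange
import Mathlib.RingTheory.Localization.FractionRing

/-!
# Spreading out an isomorphism between torsion free algebras of finite presentation over a domain
-/

set_option autoImplicit false
universe u

open TensorProduct

namespace Groth.Agent.Etdl.H171.SpreadIso

/-- Localizations at two elements dividing powers of each other agree. -/
theorem nonempty_away_equiv {E : Type*} [CommRing E] (x y : E) (k l : ℕ) (h1 : x ∣ y ^ k) (h2 : y ∣ x ^ l) :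
    Nonempty (Localization.Away x ≃ₐ[E] Localization.Away y) := by
  have hx : IsUnit (algebraMap E (Localization.Away y) x) := by
    refine isUnit_of_dvd_unit (map_dvd _ h1) ?_
    rw [map_pow]
    exact (IsLocalization.Away.algebraMap_isUnit y).pow k
  have hy : IsUnit (algebraMap E (Localization.Away x) y) := by
    refine isUnit_of_dvd_unit (map_dvd _ h2) ?_
    rw [map_pow]
    exact (IsLocalization.Away.algebraMap_isUnit x).pow l
  let a : Localization.Away x →ₐ[E] Localization.Away y :=
    IsLocalization.liftAlgHom (M := Submonoid.powers x) (f := Algebra.ofId E _) (by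
      rintro ⟨_, k, rfl⟩
      simpa [Algebra.ofId_apply] using hx.pow k)
  let b : Localization.Away y →ₐ[E] Localization.Away x :=
    IsLocalization.liftAlgHom (M := Submonoid.powers y) (f := Algebra.ofId E _) (by
      rintro ⟨_, k, rfl⟩
      simpa [Algebra.ofId_apply] using hy.pow k)
  exact ⟨AlgEquiv.ofAlgHom a b (IsLocalization.algHom_ext (Submonoid.powers y) (by ext))
    (IsLocalization.algHom_ext (Submonoid.powers x) (by ext))⟩

variable {D : Type u} [CommRing D] [IsDomain D]

section one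

variable {E TM : Type u} [CommRing E] [Algebra D E] [CommRing TM] [Algebra D TM] [Algebra E TM]
  [IsScalarTower D E TM] [IsLocalization (Algebra.algebraMapSubmonoid E (nonZeroDivisors D)) TM]

/-- the map from `E[1/g]` to the localization at all nonzero elements of `D` -/
noncomputable def lam (g : D) (hg : g ≠ 0) :
    Localization.Away (algebraMap D E g) →ₐ[E] TM :=
  IsLocalization.liftAlgHom (M := Submonoid.powers (algebraMap D E g)) (f := Algebra.ofId E TM) (by
    rintro ⟨_, k, rfl⟩
    have : IsUnit (algebraMap E TM (algebraMap D E g)) :=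
      IsLocalization.map_units TM (⟨algebraMap D E g, g, mem_nonZeroDivisors_of_ne_zero hg, rfl⟩ :
        Algebra.algebraMapSubmonoid E (nonZeroDivisors D))
    simpa [Algebra.ofId_apply] using this.pow k)

omit [Algebra D TM] [IsScalarTower D E TM] in
theorem lam_injective (hE : Function.Injective (algebraMap E TM)) (g : D) (hg : g ≠ 0) :
    Function.Injective (lam (E := E) (TM := TM) g hg) := by
  rw [injective_iff_map_eq_zero]
  intro u hu
  obtain ⟨⟨x, s⟩, hx⟩ := IsLocalization.surj (Submonoid.powers (algebraMap D E g)) u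
  have h1 := congrArg (lam (E := E) (TM := TM) g hg) hx
  rw [map_mul, hu, zero_mul, AlgHom.commutes] at h1
  have h2 : x = 0 := hE (h1.symm.trans (map_zero _).symm)
  rw [h2, map_zero] at hx
  exact (IsLocalization.map_units _ s).mul_left_eq_zero.1 hx

end one

variable {E₁ E₂ T₁ T₂ : Type u} [CommRing E₁] [Algebra D E₁] [CommRing T₁] [Algebra D T₁] [Algebra E₁ T₁]
  [IsScalarTower D E₁ T₁] [IsLocalization (Algebra.algebraMapSubmonoid E₁ (nonZeroDivisors D)) T₁]
  [CommRing E₂] [Algebra D E₂] [CommRing T₂] [Algebra D T₂] [Algebra E₂ T₂]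
  [IsScalarTower D E₂ T₂] [IsLocalization (Algebra.algebraMapSubmonoid E₂ (nonZeroDivisors D)) T₂]

/-- one direction -/
theorem exists_hom [Algebra.FinitePresentation D E₁] (e : T₁ →ₐ[D] T₂) :
    ∃ g : D, g ≠ 0 ∧ ∀ g' : D, g ∣ g' → ∀ (hg' : g' ≠ 0),
      ∃ α : Localization.Away (algebraMap D E₁ g') →ₐ[D] Localization.Away (algebraMap D E₂ g'),
        ∀ u, lam (E := E₂) (TM := T₂) g' hg' (α u) = e (lam (E := E₁) (TM := T₁) g' hg' u) := by
  obtain ⟨m, hm, H⟩ := CalgC.SpreadAlg.exists_lift_away (R := D) (S := E₁) (T := E₂) (TM := T₂)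
    (Algebra.algebraMapSubmonoid E₂ (nonZeroDivisors D)) (e.comp (IsScalarTower.toAlgHom D E₁ T₁))
  obtain ⟨g, hg, rfl⟩ := hm
  refine ⟨g, nonZeroDivisors.ne_zero hg, fun g' hgg' hg' => ?_⟩
  have H' := H (algebraMap D E₂ g') (map_dvd (algebraMap D E₂) hgg')
  obtain ⟨ψ, hψ⟩ := H' (Localization.Away (algebraMap D E₂ g'))
  have hu : IsUnit (ψ (algebraMap D E₁ g')) := by
    rw [AlgHom.commutes, IsScalarTower.algebraMap_apply D E₂ (Localization.Away (algebraMap D E₂ g'))]
    exact IsLocalization.Away.algebraMap_isUnit _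
  let α : Localization.Away (algebraMap D E₁ g') →ₐ[D] Localization.Away (algebraMap D E₂ g') :=
    IsLocalization.liftAlgHom (M := Submonoid.powers (algebraMap D E₁ g')) (f := ψ) (by
      rintro ⟨_, k, rfl⟩
      simpa using hu.pow k)
  have hα : ∀ x : E₁, α (algebraMap E₁ _ x) = ψ x := fun x => IsLocalization.lift_eq _ x
  refine ⟨α, fun u => ?_⟩
  have key : ((lam (E := E₂) (TM := T₂) g' hg').restrictScalars D).comp α =
      e.comp ((lam (E := E₁) (TM := T₁) g' hg').restrictScalars D) := by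
    refine IsLocalization.algHom_ext (Submonoid.powers (algebraMap D E₁ g')) ?_
    ext x
    change lam (E := E₂) (TM := T₂) g' hg' (α (algebraMap E₁ _ x)) =
      e (lam (E := E₁) (TM := T₁) g' hg' (algebraMap E₁ _ x))
    rw [hα, hψ, AlgHom.commutes]
    rfl
  exact DFunLike.congr_fun key u

/-- **Spreading out an isomorphism.** -/
theorem exists_equiv [Algebra.FinitePresentation D E₁] [Algebra.FinitePresentation D E₂] (e : T₁ ≃ₐ[D] T₂)
    (h₁ : Function.Injective (algebraMap E₁ T₁)) (h₂ : Function.Injective (algebraMap E₂ T₂)) :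
    ∃ g : D, g ≠ 0 ∧ ∀ g' : D, g ∣ g' → g' ≠ 0 →
      Nonempty (Localization.Away (algebraMap D E₁ g') ≃ₐ[D] Localization.Away (algebraMap D E₂ g')) := by
  obtain ⟨g₁, hg₁, H₁⟩ := exists_hom (E₁ := E₁) (E₂ := E₂) (e : T₁ →ₐ[D] T₂)
  obtain ⟨g₂, hg₂, H₂⟩ := exists_hom (E₁ := E₂) (E₂ := E₁) (e.symm : T₂ →ₐ[D] T₁)
  refine ⟨g₁ * g₂, mul_ne_zero hg₁ hg₂, fun g' hg hg' => ?_⟩
  obtain ⟨α, hα⟩ := H₁ g' ((Dvd.intro _ rfl).trans hg) hg'
  obtain ⟨β, hβ⟩ := H₂ g' ((Dvd.intro_left _ rfl).trans hg) hg'
  refine ⟨AlgEquiv.ofAlgHom α β ?_ ?_⟩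
  · refine AlgHom.ext fun u => ?_
    apply lam_injective h₂ g' hg'
    change lam (E := E₂) (TM := T₂) g' hg' (α (β u)) = lam (E := E₂) (TM := T₂) g' hg' u
    rw [hα, hβ]
    exact e.apply_symm_apply _
  · refine AlgHom.ext fun u => ?_
    apply lam_injective h₁ g' hg'
    change lam (E := E₁) (TM := T₁) g' hg' (β (α u)) = lam (E := E₁) (TM := T₁) g' hg' u
    rw [hβ, hα]
    exact e.symm_apply_apply _

end Groth.Agent.Etdl.H171.SpreadIso
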