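import Mathlib.RingTheory.AdjoinRoot
import Mathlib.RingTheory.Polynomial.ScaleRoots
import Mathlib.RingTheory.Localization.Integral
import Mathlib.FieldTheory.Separable

/-!
# Clearing denominators in a monic separable polynomial over a localization
-/

set_option autoImplicit false
universe u

open Polynomial

namespace Groth.Agent.Etdl.H171.ScaleMon

theorem scaleRoots_eq {O : Type*} [CommRing O] (F : O[X]) (s : Oˣ) :
    F.scaleRoots (s : O) = C ((s : O) ^ F.natDegree) * F.comp (C (↑s⁻¹ : O) * X) := by
  ext i
  rw [coeff_scaleRoots, coeff_C_mul, comp_C_mul_X_coeff]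
  rcases le_or_gt i F.natDegree with h | h
  · have h1 : (s : O) ^ F.natDegree * (↑s⁻¹ : O) ^ i = (s : O) ^ (F.natDegree - i) := by
      conv_lhs => rw [← Nat.sub_add_cancel h, pow_add, mul_assoc, ← mul_pow, Units.mul_inv, one_pow, mul_one]
    rw [← h1]
    ring
  · rw [coeff_eq_zero_of_natDegree_lt h]
    ring

/-- rescaling the variable -/
noncomputable def scaleEquiv {O : Type*} [CommRing O] (s : Oˣ) : O[X] ≃ₐ[O] O[X] :=
  AlgEquiv.ofAlgHom (aeval (C (↑s⁻¹ : O) * X)) (aeval (C (s : O) * X))
    (by
      ext
      simp only [AlgHom.coe_comp, Function.comp_apply, aeval_X, map_mul, AlgHom.id_apply]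
      rw [aeval_C, algebraMap_eq, ← mul_assoc, ← C_mul, Units.mul_inv, C_1, one_mul])
    (by
      ext
      simp only [AlgHom.coe_comp, Function.comp_apply, aeval_X, map_mul, AlgHom.id_apply]
      rw [aeval_C, algebraMap_eq, ← mul_assoc, ← C_mul, Units.inv_mul, C_1, one_mul])

theorem scaleEquiv_apply {O : Type*} [CommRing O] (s : Oˣ) (F : O[X]) :
    scaleEquiv s F = F.comp (C (↑s⁻¹ : O) * X) := by
  change aeval _ F = _
  rw [aeval_def, algebraMap_eq, comp]

theorem separable_scaleRoots {O : Type*} [CommRing O] (F : O[X]) (hs : F.Separable) (s : Oˣ) :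
    (F.scaleRoots (s : O)).Separable := by
  rw [scaleRoots_eq]
  have h1 : IsCoprime (F.comp (C (↑s⁻¹ : O) * X)) ((derivative F).comp (C (↑s⁻¹ : O) * X)) := by
    have := IsCoprime.map (separable_def F |>.1 hs) (compRingHom (C (↑s⁻¹ : O) * X))
    simpa using this
  have hu : IsUnit (C ((s : O) ^ F.natDegree)) := (s.isUnit.pow _).map C
  have hu' : IsUnit (C (↑s⁻¹ : O)) := (s⁻¹).isUnit.map C
  rw [separable_def, derivative_C_mul, derivative_comp, derivative_C_mul, derivative_X, mul_one]
  refine (isCoprime_mul_unit_left_left hu _ _).2 ?_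
  refine (isCoprime_mul_unit_left_right hu _ _).2 ?_
  exact (isCoprime_mul_unit_left_right hu' _ _).2 h1

theorem exists_monic_scale {W O : Type u} [CommRing W] [CommRing O] [Algebra W O]
    (M : Submonoid W) (hM : M ≤ nonZeroDivisors W) [IsLocalization M O] (F : O[X]) (hF : F.Monic)
    (hs : F.Separable) :
    ∃ (P a b : W[X]) (d : W), P.Monic ∧ d ∈ M ∧ a * P + b * derivative P = C d ∧
      Nonempty ((O[X] ⧸ Ideal.span {F}) ≃ₐ[O] AdjoinRoot (P.map (algebraMap W O))) := by
  classical
  let s : M := IsLocalization.commonDenom M F.support F.coeff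
  obtain ⟨u, hu⟩ := IsLocalization.map_units O s
  obtain ⟨P, hP, -, hPm⟩ := lifts_and_natDegree_eq_and_monic
    (IsLocalization.scaleRoots_commonDenom_mem_lifts M F (by rw [hF.leadingCoeff]; exact one_mem _))
    ((monic_scaleRoots_iff _).2 hF)
  change P.map (algebraMap W O) = F.scaleRoots (algebraMap W O s) at hP
  rw [← hu] at hP
  have hsep : (P.map (algebraMap W O)).Separable := hP ▸ separable_scaleRoots F hs u
  obtain ⟨a', b', hab⟩ := hsep
  obtain ⟨c, hc, hc'⟩ := IsLocalization.integerNormalization_spec M a'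
  obtain ⟨d, hd, hd'⟩ := IsLocalization.integerNormalization_spec M b'
  refine ⟨P, C d * IsLocalization.integerNormalization M a', C c * IsLocalization.integerNormalization M b',
    c * d, hPm, M.mul_mem hc hd, ?_, ⟨?_⟩⟩
  · have hinj : Function.Injective (Polynomial.map (algebraMap W O)) :=
      map_injective _ (IsLocalization.injective O hM)
    apply hinj
    rw [Polynomial.map_add, Polynomial.map_mul, Polynomial.map_mul, Polynomial.map_mul, Polynomial.map_mul,
      hc', hd', ← derivative_map, map_C, map_C, map_C, map_mul, C_mul]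
    have e1 : c • a' = C (algebraMap W O c) * a' := by
      rw [← IsScalarTower.algebraMap_smul O c a', smul_eq_C_mul]
    have e2 : d • b' = C (algebraMap W O d) * b' := by
      rw [← IsScalarTower.algebraMap_smul O d b', smul_eq_C_mul]
    rw [e1, e2]
    calc _ = C (algebraMap W O c) * C (algebraMap W O d) * (a' * P.map (algebraMap W O) +
          b' * derivative (P.map (algebraMap W O))) := by ring
      _ = _ := by rw [hab, mul_one]
  · refine Ideal.quotientEquivAlg (Ideal.span {F}) (Ideal.span {P.map (algebraMap W O)}) (scaleEquiv u) ?_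
    rw [Ideal.map_span, Set.image_singleton, hP, scaleRoots_eq]
    have : IsUnit (C ((u : O) ^ F.natDegree)) := (u.isUnit.pow _).map C
    rw [Ideal.span_singleton_mul_left_unit this]
    congr 2

end Groth.Agent.Etdl.H171.ScaleMon
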